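import Mathlib

/-!
Generic reduction for a class of subgroups of prime order in which any two distinct
members generate a simple non-`p`-group (used for S3403).
-/

set_option autoImplicit false

namespace H51.ElevenGen

open Subgroup

variable {G : Type*} [Group G]

/-- conjugate of a subgroup -/
abbrev cj (P : Subgroup G) (g : G) : Subgroup G := P.map (MulAut.conj g).toMonoidHom

/-- any two distinct conjugates of `P` generate a simple group that is not a `p`-group -/
def SimplePairs (p : ℕ) (P : Subgroup G) : Prop :=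
  ∀ g : G, cj P g ≠ P → IsSimpleGroup ↥(P ⊔ cj P g) ∧ ¬ IsPGroup p ↥(P ⊔ cj P g)

theorem mem_cj {P : Subgroup G} {g x : G} : x ∈ cj P g ↔ g⁻¹ * x * g ∈ P := by
  simp only [cj, Subgroup.mem_map, MulEquiv.coe_toMonoidHom, MulAut.conj_apply]
  refine ⟨?_, fun h => ⟨g⁻¹ * x * g, h, by group⟩⟩
  rintro ⟨y, hy, rfl⟩
  simpa [mul_assoc] using hy

theorem cj_mul (P : Subgroup G) (g h : G) : cj P (g * h) = cj (cj P h) g := by
  ext x; simp only [mem_cj, mul_inv_rev, mul_assoc]

theorem cj_eq_iff_mem_normalizer {P : Subgroup G} {g : G} :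
    cj P g = P ↔ g ∈ normalizer (P : Set G) := by
  constructor
  · intro h
    refine Subgroup.mem_normalizer_iff.mpr fun x => ?_
    conv_rhs => rw [← h, mem_cj]
    simp [mul_assoc]
  · intro h
    ext x
    rw [mem_cj]
    have := Subgroup.mem_normalizer_iff.mp h (g⁻¹ * x * g)
    rw [this]
    simp [mul_assoc]

theorem card_cj (P : Subgroup G) (g : G) : Nat.card ↥(cj P g) = Nat.card ↥P :=
  (Nat.card_congr (P.equivMapOfInjective _ (MulAut.conj g).injective).toEquiv).symm

variable {p : ℕ} [Fact p.Prime] [Finite G] {P : Subgroup G}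

theorem isPGroup_of_card (hP : Nat.card ↥P = p) : IsPGroup p ↥P :=
  IsPGroup.of_card (n := 1) (by simpa using hP)

/-- two distinct conjugates never lie in a common `p`-subgroup -/
theorem eq_of_le_pGroup (hs : SimplePairs p P) {S : Subgroup G}
    (hS : IsPGroup p ↥S) (hPS : P ≤ S) {g : G} (hg : cj P g ≤ S) : cj P g = P := by
  by_contra hne
  exact (hs g hne).2 (hS.to_le (sup_le hPS hg))

/-- distinct conjugates do not normalise each other -/
theorem not_le_normalizer (hP : Nat.card ↥P = p) (hs : SimplePairs p P) {g : G}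
    (hne : cj P g ≠ P) : ¬ cj P g ≤ normalizer (P : Set G) := by
  intro hle
  refine (hs g hne).2 ?_
  have hQ : IsPGroup p ↥(cj P g) := isPGroup_of_card (P := cj P g) (by rw [card_cj, hP])
  exact (isPGroup_of_card hP).to_sup_of_normal_left' hQ hle

/-- `P` is normal in each `p`-subgroup containing it -/
theorem pGroup_le_normalizer (hP : Nat.card ↥P = p) (hs : SimplePairs p P) {S : Subgroup G}
    (hS : IsPGroup p ↥S) (hPS : P ≤ S) : S ≤ normalizer (P : Set G) := by
  intro s hs'
  rw [← cj_eq_iff_mem_normalizer]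
  refine eq_of_le_pGroup hs hS hPS fun x hx => ?_
  rw [mem_cj] at hx
  have := S.mul_mem (S.mul_mem hs' (hPS hx)) (S.inv_mem hs')
  simpa [mul_assoc] using this

/-- `P` is central in each `p`-subgroup containing it -/
theorem pGroup_le_centralizer (hP : Nat.card ↥P = p) (hs : SimplePairs p P) {S : Subgroup G}
    (hS : IsPGroup p ↥S) (hPS : P ≤ S) : S ≤ centralizer (P : Set G) := by
  haveI : IsPGroup p ↥S := hS
  have hn : (P.subgroupOf S).Normal := by
    rw [Subgroup.normal_subgroupOf_iff_le_normalizer hPS]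
    exact pGroup_le_normalizer hP hs hS hPS
  have hc : Nat.card ↥(P.subgroupOf S) = p := by
    rw [Nat.card_congr (Subgroup.subgroupOfEquivOfLe hPS).toEquiv, hP]
  have hmeet : (P.subgroupOf S) ≤ center ↥S := by
    have hnt : Nontrivial ↥(P.subgroupOf S) := by
      rw [← Finite.one_lt_card_iff_nontrivial, hc]; exact (Fact.out : p.Prime).one_lt
    -- the conjugation action of a `p`-group on a normal subgroup of order `p` is trivial
    let φ : ↥S →* MulAut ↥(P.subgroupOf S) :=
      @MulAut.conjNormal ↥S _ (P.subgroupOf S) hn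
    haveI : IsCyclic ↥(P.subgroupOf S) := isCyclic_of_prime_card hc
    have hA : Nat.card (MulAut ↥(P.subgroupOf S)) = p - 1 := by
      rw [IsCyclic.card_mulAut, hc, Nat.totient_prime Fact.out]
    obtain ⟨n, hn'⟩ := IsPGroup.iff_card.mp hS
    have hr : Nat.card φ.range ∣ Nat.gcd (p ^ n) (p - 1) := by
      refine Nat.dvd_gcd (hn' ▸ Subgroup.card_range_dvd φ) ?_
      exact hA ▸ Subgroup.card_subgroup_dvd_card φ.range
    have hco : Nat.Coprime (p ^ n) (p - 1) := by
      refine Nat.Coprime.pow_left n ((Fact.out : p.Prime).coprime_iff_not_dvd.mpr ?_)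
      intro h
      have hp2 := (Fact.out : p.Prime).two_le
      have := Nat.le_of_dvd (by omega) h
      omega
    rw [hco.gcd_eq_one, Nat.dvd_one, Subgroup.card_eq_one] at hr
    intro x hx
    refine Subgroup.mem_center_iff.mpr fun s => ?_
    have h1 : φ s = 1 := by
      have : φ s ∈ φ.range := ⟨s, rfl⟩
      rw [hr] at this
      exact Subgroup.mem_bot.mp this
    have h2 := congrArg (fun a : MulAut ↥(P.subgroupOf S) => ((a ⟨x, hx⟩ : ↥(P.subgroupOf S)) : ↥S)) h1
    simp [φ] at h2
    calc s * x = (s * x * s⁻¹) * s := by group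
      _ = x * s := by rw [h2]
  intro s hs'
  refine Subgroup.mem_centralizer_iff.mpr fun x hx => ?_
  have := Subgroup.mem_center_iff.mp (hmeet (x := ⟨x, hPS hx⟩) hx) ⟨s, hs'⟩
  exact (congrArg Subtype.val this).symm

/-- `P` is weakly closed in a Sylow subgroup containing it and central in it -/
theorem exists_sylow (hP : Nat.card ↥P = p) (hs : SimplePairs p P) :
    ∃ S : Sylow p G, P ≤ (S : Subgroup G) ∧ (S : Subgroup G) ≤ centralizer (P : Set G) ∧
      ∀ g : G, cj P g ≤ (S : Subgroup G) → cj P g = P := by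
  obtain ⟨S, hS⟩ := (isPGroup_of_card hP).exists_le_sylow
  exact ⟨S, hS, pGroup_le_centralizer hP hs S.isPGroup' hS,
    fun g hg => eq_of_le_pGroup hs S.isPGroup' hS hg⟩

/-- every normal subgroup is everything or central -/
theorem normal_cases (hP : Nat.card ↥P = p) (hs : SimplePairs p P) (hPn : ¬ P.Normal)
    (hgen : normalClosure (P : Set G) = ⊤) (N : Subgroup G) [N.Normal] :
    N = ⊤ ∨ N ≤ center G := by
  by_cases hPN : P ≤ N
  · exact Or.inl (top_le_iff.mp (hgen ▸ Subgroup.normalClosure_le_normal hPN))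
  right
  have hPtriv : P ⊓ N = ⊥ := by
    haveI : Fact (Nat.card ↥P).Prime := ⟨hP.symm ▸ (Fact.out : p.Prime)⟩
    rcases ((P ⊓ N).subgroupOf P).eq_bot_or_eq_top_of_prime_card with h | h
    · exact (inf_eq_left.mpr inf_le_left).symm.trans (Subgroup.subgroupOf_eq_bot.mp h).eq_bot
    · exact absurd (le_trans (Subgroup.subgroupOf_eq_top.mp h) inf_le_right) hPN
  have hnorm : N ≤ normalizer (P : Set G) := by
    intro n hn
    rw [← cj_eq_iff_mem_normalizer]
    by_contra hne
    obtain ⟨hsimp, hnp⟩ := hs n hne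
    let H : Subgroup G := P ⊔ cj P n
    have hHle : H ≤ P ⊔ N := by
      refine sup_le le_sup_left fun x hx => ?_
      rw [mem_cj] at hx
      have hn' : n ∈ P ⊔ N := (le_sup_right : N ≤ P ⊔ N) hn
      have := (P ⊔ N).mul_mem ((P ⊔ N).mul_mem hn' ((le_sup_left : P ≤ P ⊔ N) hx))
        ((P ⊔ N).inv_mem hn')
      simpa [mul_assoc] using this
    have hNH : (N.subgroupOf H).Normal := inferInstance
    rcases @IsSimpleGroup.eq_bot_or_eq_top_of_normal ↥H _ hsimp (N.subgroupOf H) hNH with h | h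
    · -- `H` embeds in `(P ⊔ N) / N`
      refine hnp ?_
      have hinj : Function.Injective ((QuotientGroup.mk' N).comp H.subtype) := by
        rw [injective_iff_map_eq_one]
        intro x hx
        have hxN : (x : G) ∈ N := (QuotientGroup.eq_one_iff (x : G)).mp hx
        have : x ∈ N.subgroupOf H := hxN
        rw [h] at this
        exact Subgroup.mem_bot.mp this
      have hrange : ((QuotientGroup.mk' N).comp H.subtype).range ≤ P.map (QuotientGroup.mk' N) := by
        rintro _ ⟨x, rfl⟩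
        have hx : (x : G) ∈ ((P ⊔ N : Subgroup G) : Set G) := hHle x.2
        rw [Subgroup.mul_normal] at hx
        obtain ⟨a, ha, b, hb, hab⟩ := Set.mem_mul.mp hx
        refine ⟨a, ha, ?_⟩
        show (a : G ⧸ N) = ((x : G) : G ⧸ N)
        rw [← hab, QuotientGroup.eq]
        simpa using hb
      have hdvd : Nat.card ↥H ∣ p := by
        rw [Nat.card_congr (MonoidHom.ofInjective hinj).toEquiv]
        exact ((Subgroup.card_dvd_of_le hrange).trans (Subgroup.card_map_dvd P _)).trans
          (dvd_of_eq hP)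
      obtain ⟨k, -, hk⟩ := (Nat.dvd_prime_pow (Fact.out : p.Prime)).mp
        (by simpa using hdvd : Nat.card ↥H ∣ p ^ 1)
      exact IsPGroup.of_card hk
    · exact hPN (le_trans le_sup_left (Subgroup.subgroupOf_eq_top.mp h))
  intro n hn
  have hcomm : ∀ g : G, ∀ x ∈ cj P g, Commute n x := by
    intro g x hx
    rw [mem_cj] at hx
    have hn1 : g⁻¹ * n * g ∈ N := by
      simpa using ‹N.Normal›.conj_mem n hn g⁻¹
    have h1 : (g⁻¹ * n * g) * (g⁻¹ * x * g) * (g⁻¹ * n * g)⁻¹ * (g⁻¹ * x * g)⁻¹ ∈ P ⊓ N := by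
      refine ⟨P.mul_mem ((Subgroup.mem_normalizer_iff.mp (hnorm hn1) _).mp hx) (P.inv_mem hx), ?_⟩
      have h2 : (g⁻¹ * x * g) * (g⁻¹ * n * g)⁻¹ * (g⁻¹ * x * g)⁻¹ ∈ N :=
        ‹N.Normal›.conj_mem _ (N.inv_mem hn1) _
      simpa [mul_assoc] using N.mul_mem hn1 h2
    rw [hPtriv, Subgroup.mem_bot] at h1
    have h3 : Commute (g⁻¹ * n * g) (g⁻¹ * x * g) := by
      exact commute_iff_eq _ _ |>.mpr (by
        calc (g⁻¹ * n * g) * (g⁻¹ * x * g)
            = ((g⁻¹ * n * g) * (g⁻¹ * x * g) * (g⁻¹ * n * g)⁻¹ * (g⁻¹ * x * g)⁻¹) *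
              ((g⁻¹ * x * g) * (g⁻¹ * n * g)) := by group
          _ = _ := by rw [h1, one_mul])
    have h4 := congrArg (fun a => g * a * g⁻¹) h3.eq
    simpa [Commute, SemiconjBy, mul_assoc] using h4
  have : normalClosure (P : Set G) ≤ centralizer ({n} : Set G) := by
    rw [Subgroup.normalClosure, Subgroup.closure_le]
    intro x hx
    obtain ⟨a, ha, hax⟩ := Group.mem_conjugatesOfSet_iff.mp hx
    obtain ⟨g, rfl⟩ := isConj_iff.mp hax
    refine Subgroup.mem_centralizer_singleton_iff.mpr ?_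
    exact (hcomm g _ (mem_cj.mpr (by simpa [mul_assoc] using ha))).eq.symm
  rw [hgen] at this
  exact Subgroup.mem_center_iff.mpr fun g =>
    Subgroup.mem_centralizer_singleton_iff.mp (this (Subgroup.mem_top g))

/-- the group is perfect -/
theorem commutator_top (hP : Nat.card ↥P = p) (hs : SimplePairs p P) (hPn : ¬ P.Normal)
    (hgen : normalClosure (P : Set G) = ⊤) : commutator G = ⊤ := by
  refine (normal_cases hP hs hPn hgen (commutator G)).resolve_right fun hle => ?_
  have hne : ∃ g : G, cj P g ≠ P := by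
    by_contra h
    push Not at h
    exact hPn (Subgroup.normalizer_eq_top_iff.mp
      (eq_top_iff.mpr fun g _ => cj_eq_iff_mem_normalizer.mp (h g)))
  obtain ⟨g, hg⟩ := hne
  haveI : IsCyclic ↥P := isCyclic_of_prime_card hP
  refine not_le_normalizer hP hs hg fun y hy => ?_
  rw [mem_cj] at hy
  have hc : g * (g⁻¹ * y * g) * g⁻¹ * (g⁻¹ * y * g)⁻¹ ∈ center G :=
    hle (Subgroup.commutator_mem_commutator (Subgroup.mem_top g) (Subgroup.mem_top _))
  refine Subgroup.centralizer_le_normalizer _ (Subgroup.mem_centralizer_iff.mpr fun x hx => ?_)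
  have h1 := Subgroup.mem_center_iff.mp hc x
  have h2 : x * (g⁻¹ * y * g) = (g⁻¹ * y * g) * x :=
    congrArg Subtype.val (mul_comm' (⟨x, hx⟩ : ↥P) ⟨g⁻¹ * y * g, hy⟩)
  have hy' : y = g * (g⁻¹ * y * g) * g⁻¹ * (g⁻¹ * y * g)⁻¹ * (g⁻¹ * y * g) := by group
  rw [hy']
  generalize g * (g⁻¹ * y * g) * g⁻¹ * (g⁻¹ * y * g)⁻¹ = c at h1
  generalize g⁻¹ * y * g = z at h2
  rw [← mul_assoc, h1, mul_assoc, h2, ← mul_assoc]

end H51.ElevenGen
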